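import Cfsg.Agent.Lib.GL42.Good3

/-! The check of the pairs for all first columns. -/

namespace Cfsg.Agent.GL42

theorem good_all (a : ℕ) (ha : a < 16) : (glFrom a).all goodB = true := by
  have key : ∀ lo, goodRange lo 4 = true → lo ≤ a → a < lo + 4 → (glFrom a).all goodB = true := by
    intro lo h h1 h2
    simp only [goodRange, List.all_eq_true] at h ⊢
    exact h a (List.mem_range'_1.2 ⟨h1, h2⟩)
  by_cases h1 : a < 4
  · exact key 0 good0 (by omega) (by omega)
  by_cases h2 : a < 8
  · exact key 4 good1 (by omega) (by omega)
  by_cases h3 : a < 12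
  · exact key 8 good2 (by omega) (by omega)
  exact key 12 good3 (by omega) (by omega)

end Cfsg.Agent.GL42
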