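import Mathlib.Data.Nat.Bitwise

/-! Four by four matrices over the field of two elements as lists of four columns, and checks of the
pairs generating transitively on ordered pairs of non-zero vectors. -/

namespace Cfsg.Agent.GL42

/-- Image of a vector under a matrix given by columns. -/
def app (A : List ℕ) (v : ℕ) : ℕ :=
  match A with
  | [a, b, c, d] =>
    Nat.xor (Nat.xor (Nat.xor (Nat.mul (Nat.land v 1) a) (Nat.mul (Nat.land (Nat.shiftRight v 1) 1) b))
      (Nat.mul (Nat.land (Nat.shiftRight v 2) 1) c)) (Nat.mul (Nat.land (Nat.shiftRight v 3) 1) d)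
  | _ => 0

/-- Product. -/
def mulC (A B : List ℕ) : List ℕ := [app A (B.getD 0 0), app A (B.getD 1 0), app A (B.getD 2 0), app A (B.getD 3 0)]

/-- The identity. -/
def idM : List ℕ := [1, 2, 4, 8]

/-- Equality of two matrices. -/
def eqC (A B : List ℕ) : Bool :=
  Nat.beq (A.getD 0 0) (B.getD 0 0) && Nat.beq (A.getD 1 0) (B.getD 1 0) &&
    Nat.beq (A.getD 2 0) (B.getD 2 0) && Nat.beq (A.getD 3 0) (B.getD 3 0)

/-- Powers. -/
def powC (A : List ℕ) : ℕ → List ℕ
  | 0 => idM
  | n + 1 => mulC A (powC A n)

/-- The matrices with independent columns. -/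
def glFrom (a : ℕ) : List (List ℕ) := bif Nat.beq a 0 then [] else
    (List.range 16).flatMap fun b => bif Nat.beq b 0 || Nat.beq b a then [] else
      (List.range 16).flatMap fun c => bif Nat.beq c 0 || Nat.beq c a || Nat.beq c b || Nat.beq c (a ^^^ b) then [] else
        ((List.range 16).filter fun d => !(Nat.beq d 0 || Nat.beq d a || Nat.beq d b || Nat.beq d c ||
          Nat.beq d (a ^^^ b) || Nat.beq d (a ^^^ c) || Nat.beq d (b ^^^ c) || Nat.beq d (a ^^^ b ^^^ c))).map
            fun d => [a, b, c, d]

/-- An element of order five. -/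
def b0C : List ℕ := [2, 4, 8, 15]

/-- Depth-first closure of pairs under two matrices, as a set of bits. -/
def visit (A B : List ℕ) : ℕ → List ℕ → ℕ → ℕ
  | 0, _, seen => seen
  | _, [], seen => seen
  | f + 1, p :: st, seen =>
    bif Nat.beq (Nat.land (Nat.shiftRight seen p) 1) 1 then visit A B f st seen
    else visit A B f ((app A (p % 16) + 16 * app A (p / 16)) :: (app B (p % 16) + 16 * app B (p / 16)) :: st)
      (seen ||| 2 ^ p)

/-- All pairs of distinct non-zero vectors, as a set of bits. -/
def allPairs : ℕ :=
  (List.range 256).foldl (fun r p =>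
    bif Nat.beq (p % 16) 0 || Nat.beq (p / 16) 0 || Nat.beq (p % 16) (p / 16) then r else r ||| 2 ^ p) 0

/-- The pair with the element of order five reaches every pair. -/
def twoB (A : List ℕ) : Bool := Nat.beq (visit A b0C 600 [1 + 16 * 2] 0) allPairs

/-- The cube is the identity, tested column by column. -/
def cubeB (A : List ℕ) : Bool :=
  Nat.beq (app A (app A (A.getD 0 0))) 1 && Nat.beq (app A (app A (A.getD 1 0))) 2 &&
    Nat.beq (app A (app A (A.getD 2 0))) 4 && Nat.beq (app A (app A (A.getD 3 0))) 8

/-- An element of order three with product of order seven gives a doubly transitive group. -/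
def goodB (A : List ℕ) : Bool :=
  eqC A idM || !(cubeB A) || !(eqC (powC (mulC A b0C) 7) idM) || twoB A

/-- Elements carrying the powers of the element of order five to it, with their inverses. -/
def normW : List (List ℕ × List ℕ) :=
  [([1, 2, 4, 8], [1, 2, 4, 8]), ([1, 8, 2, 15], [1, 4, 15, 2]), ([1, 4, 15, 2], [1, 8, 2, 15]),
    ([1, 15, 8, 4], [1, 15, 8, 4])]

/-- The witnesses work. -/
def normOK : Bool :=
  eqC (powC b0C 5) idM && !(eqC b0C idM) && (List.range 4).all fun k =>
    eqC (mulC (normW.getD k ([], [])).1 (normW.getD k ([], [])).2) idM &&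
    eqC (mulC (normW.getD k ([], [])).2 (normW.getD k ([], [])).1) idM &&
    eqC (mulC (mulC (normW.getD k ([], [])).1 (powC b0C (k + 1))) (normW.getD k ([], [])).2) b0C

/-- The check for first columns below a bound. -/
def goodRange (lo n : ℕ) : Bool := (List.range' lo n).all fun a => (glFrom a).all goodB

theorem norm_ok : normOK = true := by decide +kernel

end Cfsg.Agent.GL42
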