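import Cfsg.Agent.Lib.GL42.Transitive
import Cfsg.Agent.Lib.SymPres.Coxeter
import Mathlib.GroupTheory.SemidirectProduct
import Mathlib.GroupTheory.SpecificGroups.Alternating.Simple

/-! The alternating group of degree seven in the general linear group of dimension four over two elements: the
symmetric group maps to the extension by the inverse transpose, adjacent transpositions going to symmetric
matrices. -/

namespace Cfsg.Agent.GL42

open Matrix

/-- The inverse transpose, as a map. -/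
def tauFun (u : G42) : G42 :=
  ⟨((u⁻¹ : G42) : Matrix (Fin 4) (Fin 4) (ZMod 2))ᵀ, (u : Matrix (Fin 4) (Fin 4) (ZMod 2))ᵀ,
    by rw [← transpose_mul, ← Units.val_mul, mul_inv_cancel, Units.val_one, transpose_one],
    by rw [← transpose_mul, ← Units.val_mul, inv_mul_cancel, Units.val_one, transpose_one]⟩

theorem tauFun_tauFun (u : G42) : tauFun (tauFun u) = u :=
  Units.ext (transpose_transpose _)

/-- The inverse transpose. -/
def tau : MulAut G42 where
  toFun := tauFun
  invFun := tauFun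
  left_inv := tauFun_tauFun
  right_inv := tauFun_tauFun
  map_mul' u v := Units.ext (by
    show (((u * v)⁻¹ : G42) : Matrix (Fin 4) (Fin 4) (ZMod 2))ᵀ =
      ((u⁻¹ : G42) : Matrix (Fin 4) (Fin 4) (ZMod 2))ᵀ * ((v⁻¹ : G42) : Matrix (Fin 4) (Fin 4) (ZMod 2))ᵀ
    rw [_root_.mul_inv_rev, Units.val_mul, transpose_mul])

theorem tau_mul_tau : tau * tau = 1 := MulEquiv.ext tauFun_tauFun

/-- The group of order two acting by the inverse transpose. -/
def theta : ℤˣ →* MulAut G42 where
  toFun e := if e = 1 then 1 else tau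
  map_one' := if_pos rfl
  map_mul' a b := by
    rcases Int.units_eq_one_or a with rfl | rfl <;> rcases Int.units_eq_one_or b with rfl | rfl <;>
      simp [tau_mul_tau]

/-- The six symmetric matrices. -/
def gC : List (List ℕ) :=
  [[2, 1, 8, 4], [4, 8, 9, 6], [2, 5, 10, 4], [8, 4, 2, 1], [2, 13, 10, 6], [4, 8, 1, 2]]

/-- Their inverses. -/
def hC : List (List ℕ) :=
  [[2, 1, 8, 4], [6, 9, 1, 2], [10, 1, 8, 5], [8, 4, 2, 1], [14, 1, 9, 5], [4, 8, 1, 2]]

/-- The matrix with given columns. -/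
def ofCols (L : List ℕ) : Matrix (Fin 4) (Fin 4) (ZMod 2) := fun i j => dec (L.getD (j : ℕ) 0) i

theorem gen_facts : ∀ i : Fin 6, ofCols (gC.getD i []) * ofCols (hC.getD i []) = 1 ∧
    ofCols (hC.getD i []) * ofCols (gC.getD i []) = 1 ∧
    (ofCols (gC.getD i []))ᵀ = ofCols (gC.getD i []) ∧ (ofCols (hC.getD i []))ᵀ = ofCols (hC.getD i []) := by
  decide +kernel

/-- The symmetric matrices as units. -/
def gU (i : Fin 6) : G42 :=
  ⟨ofCols (gC.getD i []), ofCols (hC.getD i []), (gen_facts i).1, (gen_facts i).2.1⟩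

theorem tau_gU (i : Fin 6) : tau (gU i) = (gU i)⁻¹ := Units.ext (gen_facts i).2.2.2

theorem rel_facts :
    (∀ i j : Fin 6, (i : ℕ) + 1 = (j : ℕ) → gU i * (gU j)⁻¹ * gU i = gU j * (gU i)⁻¹ * gU j) ∧
    (∀ i j : Fin 6, (i : ℕ) + 1 < (j : ℕ) → gU i * (gU j)⁻¹ = gU j * (gU i)⁻¹) ∧
    gU 0 * (gU 1)⁻¹ ≠ 1 := by
  refine ⟨?_, ?_, ?_⟩ <;> decide +kernel

/-- The images of the adjacent transpositions. -/
def sImg (i : ℕ) : G42 ⋊[theta] ℤˣ := if h : i < 6 then ⟨gU ⟨i, h⟩, -1⟩ else 1

theorem sImg_of_lt {i : ℕ} (h : i < 6) : sImg i = ⟨gU ⟨i, h⟩, -1⟩ := dif_pos h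

theorem theta_neg_one : theta (-1) = tau := by
  show (if (-1 : ℤˣ) = 1 then (1 : MulAut G42) else tau) = tau
  exact if_neg (by decide)

theorem sImg_rels : SymCoxeter.Rels sImg 6 := by
  refine ⟨fun i hi => ?_, fun i hi => ?_, fun i j hij hj => ?_⟩
  · rw [sImg_of_lt hi]
    ext : 1
    · simp [theta_neg_one, tau_gU]
    · simp
  · rw [sImg_of_lt (show i < 6 by omega), sImg_of_lt hi]
    ext : 1
    · simp only [SemidirectProduct.mul_left, SemidirectProduct.mul_right, theta_neg_one, tau_gU,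
        show (-1 : ℤˣ) * -1 = 1 by decide, map_one, MulAut.one_apply]
      exact rel_facts.1 _ _ rfl
    · rfl
  · rw [sImg_of_lt (show i < 6 by omega), sImg_of_lt hj]
    ext : 1
    · simp only [SemidirectProduct.mul_left, theta_neg_one, tau_gU]
      exact rel_facts.2.1 _ _ hij
    · rfl

theorem exists_alt_seven : ∃ H : Subgroup G42, Nonempty (H ≃* alternatingGroup (Fin 7)) := by
  obtain ⟨φ, hφ, -⟩ := SymCoxeter.exists_hom 6 sImg sImg_rels
  have hsign : SemidirectProduct.rightHom.comp φ = Equiv.Perm.sign := by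
    refine MonoidHom.eq_of_eqOn_dense (SymCoxeter.closure_adj 6) ?_
    rintro _ ⟨i, hi, rfl⟩
    replace hi : i < 6 := hi
    rw [MonoidHom.comp_apply, hφ i hi, sImg_of_lt hi]
    rw [SymCoxeter.adj, dif_pos hi, Equiv.Perm.sign_swap (by simp [Fin.ext_iff])]
    rfl
  have hr : ∀ x : alternatingGroup (Fin 7), (φ x).right = 1 := fun x =>
    (DFunLike.congr_fun hsign (x : Equiv.Perm (Fin 7))).trans (Equiv.Perm.mem_alternatingGroup.1 x.2)
  let ψ : alternatingGroup (Fin 7) →* G42 :=
    { toFun := fun x => (φ x).left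
      map_one' := by simp
      map_mul' := fun x y => by simp [SemidirectProduct.mul_left, hr] }
  haveI : IsSimpleGroup (alternatingGroup (Fin 7)) := alternatingGroup.isSimpleGroup (by simp)
  have hψ : Function.Injective ψ := by
    rw [← MonoidHom.ker_eq_bot_iff]
    refine (IsSimpleGroup.eq_bot_or_eq_top_of_normal ψ.ker inferInstance).resolve_right fun htop => ?_
    let x : alternatingGroup (Fin 7) := ⟨SymCoxeter.adj 6 0 * SymCoxeter.adj 6 1,
      Equiv.Perm.mem_alternatingGroup.2 (by decide +kernel)⟩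
    have h1 : ψ x = 1 := MonoidHom.mem_ker.1 (htop ▸ Subgroup.mem_top x)
    refine rel_facts.2.2 (Eq.trans ?_ h1)
    show _ = (φ (SymCoxeter.adj 6 0 * SymCoxeter.adj 6 1)).left
    rw [map_mul, hφ 0 (by norm_num), hφ 1 (by norm_num), sImg_of_lt (by norm_num), sImg_of_lt (by norm_num),
      SemidirectProduct.mul_left, theta_neg_one, tau_gU]
    rfl
  exact ⟨ψ.range, ⟨(MonoidHom.ofInjective hψ).symm⟩⟩

end Cfsg.Agent.GL42
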