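import Cfsg.Agent.Lib.GL42.Good0

/-! A part of the check of the pairs. -/

namespace Cfsg.Agent.GL42

theorem good1 : goodRange 4 4 = true := by decide +kernel

end Cfsg.Agent.GL42
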