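import Cfsg.Agent.Lib.GL42.Checks
import Mathlib.LinearAlgebra.Matrix.GeneralLinearGroup.Card
import Mathlib.Algebra.Field.ZMod
import Mathlib.GroupTheory.Sylow
import Mathlib.GroupTheory.SpecificGroups.Alternating

/-! A copy of the alternating group of degree seven in the general linear group of dimension four over two
elements is transitive on ordered pairs of distinct non-zero vectors. -/

namespace Cfsg.Agent.GL42

open Matrix

set_option maxHeartbeats 400000

attribute [local irreducible] glFrom visit allPairs normW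

/-- Four by four matrices over two elements. -/
abbrev G42 := GL (Fin 4) (ZMod 2)

/-- Vectors. -/
abbrev V4 := Fin 4 → ZMod 2

/-- The code of a vector. -/
def enc (v : V4) : ℕ := (v 0).val + 2 * (v 1).val + 4 * (v 2).val + 8 * (v 3).val

/-- The vector of a code. -/
def dec (n : ℕ) : V4 := fun i => ((n >>> (i : ℕ)) % 2 : ℕ)

theorem enc_facts : (∀ v : V4, dec (enc v) = v) ∧ (∀ v : V4, enc v < 16) ∧
    (∀ v w : V4, enc (v + w) = Nat.xor (enc v) (enc w)) ∧ (∀ v : V4, enc v = 0 → v = 0) := by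
  refine ⟨?_, ?_, ?_, ?_⟩ <;> decide +kernel

theorem enc_injective : Function.Injective enc := fun v w e => by
  rw [← enc_facts.1 v, e, enc_facts.1]

/-- The columns of a matrix. -/
def cols (M : Matrix (Fin 4) (Fin 4) (ZMod 2)) : List ℕ :=
  [enc (fun i => M i 0), enc (fun i => M i 1), enc (fun i => M i 2), enc (fun i => M i 3)]

theorem app_cols (M : Matrix (Fin 4) (Fin 4) (ZMod 2)) (v : V4) : app (cols M) (enc v) = enc (M *ᵥ v) := by
  have hm : M *ᵥ v = v 0 • (fun i => M i 0) + v 1 • (fun i => M i 1) + v 2 • (fun i => M i 2) + v 3 • (fun i => M i 3) := by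
    funext i; simp [Matrix.mulVec, dotProduct, Fin.sum_univ_four]; ring
  have hsc : ∀ (c : ZMod 2) (u : V4), enc (c • u) = c.val * enc u := by
    intro c u
    have : c = 0 ∨ c = 1 := by revert c; decide
    rcases this with rfl | rfl <;> simp [enc, ZMod.val_one]
  have hbit : ∀ v : V4, Nat.land (enc v) 1 = (v 0).val ∧ Nat.land (Nat.shiftRight (enc v) 1) 1 = (v 1).val ∧
      Nat.land (Nat.shiftRight (enc v) 2) 1 = (v 2).val ∧ Nat.land (Nat.shiftRight (enc v) 3) 1 = (v 3).val := by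
    decide +kernel
  obtain ⟨b0, b1, b2, b3⟩ := hbit v
  rw [hm, enc_facts.2.2.1, enc_facts.2.2.1, enc_facts.2.2.1, hsc, hsc, hsc, hsc]
  simp only [app, cols, b0, b1, b2, b3]
  rfl

theorem cols_mul (M N : Matrix (Fin 4) (Fin 4) (ZMod 2)) : cols (M * N) = mulC (cols M) (cols N) := by
  have h : ∀ j, enc (fun i => (M * N) i j) = app (cols M) (enc (fun i => N i j)) := fun j => by
    rw [app_cols]; rfl
  simp only [cols, mulC, List.getD_cons_zero, List.getD_cons_succ, h]

theorem cols_one : cols (1 : Matrix (Fin 4) (Fin 4) (ZMod 2)) = idM := by decide +kernel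

theorem cols_injective : Function.Injective cols := by
  intro M N e
  simp only [cols, List.cons.injEq, and_true] at e
  obtain ⟨h0, h1, h2, h3⟩ := e
  ext i j
  fin_cases j
  · exact congrFun (enc_injective h0) i
  · exact congrFun (enc_injective h1) i
  · exact congrFun (enc_injective h2) i
  · exact congrFun (enc_injective h3) i

theorem cols_pow (M : Matrix (Fin 4) (Fin 4) (ZMod 2)) : ∀ n, cols (M ^ n) = powC (cols M) n
  | 0 => by rw [pow_zero, cols_one]; rfl
  | n + 1 => by rw [pow_succ', cols_mul, cols_pow M n]; rfl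

theorem eqC_self (A : List ℕ) : eqC A A = true := by simp [eqC]

theorem eqC_cols {M N : Matrix (Fin 4) (Fin 4) (ZMod 2)} (h : eqC (cols M) (cols N) = true) : M = N := by
  refine cols_injective ?_
  simp only [eqC, cols, List.getD_cons_zero, List.getD_cons_succ, Bool.and_eq_true, Nat.beq_eq] at h
  simp only [cols, h.1.1.1, h.1.1.2, h.1.2, h.2]

theorem cols_mem_glFrom {M : Matrix (Fin 4) (Fin 4) (ZMod 2)} (hM : M.det ≠ 0) :
    enc (fun i => M i 0) < 16 ∧ cols M ∈ glFrom (enc (fun i => M i 0)) := by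
  have hu : IsUnit M := (Matrix.isUnit_iff_isUnit_det M).2 (by
    rw [(show ∀ x : ZMod 2, x ≠ 0 → x = 1 by decide) _ hM]; exact isUnit_one)
  have hinj : Function.Injective M.mulVec := Matrix.mulVec_injective_iff_isUnit.2 hu
  have key : ∀ v : V4, v ≠ 0 → app (cols M) (enc v) ≠ 0 := fun v hv e => hv (hinj (by
    rw [app_cols] at e
    rw [enc_facts.2.2.2 _ e, Matrix.mulVec_zero]))
  have hn : ∀ n, 0 < n → n < 16 → app (cols M) n ≠ 0 := by
    intro n h0 h16
    have : ∀ n : Fin 16, enc (dec n) = n ∧ (0 < (n : ℕ) → dec n ≠ 0) := by decide +kernel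
    obtain ⟨e, hne⟩ := this ⟨n, h16⟩
    rw [show n = enc (dec n) from e.symm]
    exact key _ (hne h0)
  set a := enc (fun i => M i 0)
  set b := enc (fun i => M i 1)
  set c := enc (fun i => M i 2)
  set d := enc (fun i => M i 3)
  have lt := enc_facts.2.1
  have h1 := hn 1 (by norm_num) (by norm_num)
  have h2 := hn 2 (by norm_num) (by norm_num)
  have h3 := hn 3 (by norm_num) (by norm_num)
  have h4 := hn 4 (by norm_num) (by norm_num)
  have h5 := hn 5 (by norm_num) (by norm_num)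
  have h6 := hn 6 (by norm_num) (by norm_num)
  have h7 := hn 7 (by norm_num) (by norm_num)
  have h8 := hn 8 (by norm_num) (by norm_num)
  have h9 := hn 9 (by norm_num) (by norm_num)
  have h10 := hn 10 (by norm_num) (by norm_num)
  have h11 := hn 11 (by norm_num) (by norm_num)
  have h12 := hn 12 (by norm_num) (by norm_num)
  have h13 := hn 13 (by norm_num) (by norm_num)
  have h14 := hn 14 (by norm_num) (by norm_num)
  have h15 := hn 15 (by norm_num) (by norm_num)
  have hform : ∀ n, app (cols M) n = (n &&& 1) * a ^^^ ((n >>> 1) &&& 1) * b ^^^ ((n >>> 2) &&& 1) * c ^^^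
      ((n >>> 3) &&& 1) * d := fun n => rfl
  simp only [hform, Nat.reduceAnd, Nat.reduceShiftRight, one_mul, zero_mul, Nat.zero_xor, Nat.xor_zero] at h1 h2 h3 h4 h5 h6 h7 h8 h9 h10 h11 h12 h13 h14 h15
  refine ⟨lt _, ?_⟩
  have la : a ∈ List.range 16 := List.mem_range.2 (lt _)
  have lb : b ∈ List.range 16 := List.mem_range.2 (lt _)
  have lc : c ∈ List.range 16 := List.mem_range.2 (lt _)
  have ld : d ∈ List.range 16 := List.mem_range.2 (lt _)
  have nb : ∀ {x y : ℕ}, x ≠ y → Nat.beq x y = false := fun h => by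
    rw [← Bool.not_eq_true, Nat.beq_eq]; exact h
  have xne : ∀ {x y : ℕ}, x ^^^ y ≠ 0 → x ≠ y := fun h e => h (by rw [e]; exact Nat.xor_self _)
  show [a, b, c, d] ∈ glFrom a
  rw [glFrom, nb h1, cond_false]
  refine List.mem_flatMap.2 ⟨b, lb, ?_⟩
  rw [nb h2, nb (xne h3).symm, Bool.or_false, cond_false]
  refine List.mem_flatMap.2 ⟨c, lc, ?_⟩
  rw [nb h4, nb (xne h5).symm, nb (xne h6).symm, nb (xne h7).symm]
  simp only [Bool.or_false, cond_false]
  refine List.mem_map.2 ⟨d, List.mem_filter.2 ⟨ld, ?_⟩, rfl⟩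
  rw [nb h8, nb (xne h9).symm, nb (xne h10).symm, nb (xne h12).symm, nb (xne h11).symm, nb (xne h13).symm,
    nb (xne h14).symm, nb (xne h15).symm]
  rfl

/-- Bits reachable by a pair of maps. -/
theorem visit_sound {A B : List ℕ} {R : ℕ → Prop}
    (hA : ∀ p, R p → R (app A (p % 16) + 16 * app A (p / 16)))
    (hB : ∀ p, R p → R (app B (p % 16) + 16 * app B (p / 16))) :
    ∀ (f : ℕ) (st : List ℕ) (seen : ℕ), (∀ p ∈ st, R p) → (∀ q, seen.testBit q = true → R q) →
      ∀ q, (visit A B f st seen).testBit q = true → R q := by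
  intro f
  induction f with
  | zero => intro st seen _ h q hq; exact h q (by simpa [visit] using hq)
  | succ f ih =>
    intro st seen hst h q hq
    match st, hst with
    | [], _ => exact h q (by simpa [visit] using hq)
    | p :: st, hst =>
      rw [visit] at hq
      cases hb : Nat.beq (Nat.land (Nat.shiftRight seen p) 1) 1 <;> rw [hb] at hq
      · have hp := hst p List.mem_cons_self
        refine ih _ _ ?_ ?_ q hq
        · intro r hr
          simp only [List.mem_cons] at hr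
          rcases hr with rfl | rfl | hr
          · exact hA p hp
          · exact hB p hp
          · exact hst r (List.mem_cons_of_mem _ hr)
        · intro r hr
          rw [Nat.testBit_or, Bool.or_eq_true] at hr
          rcases hr with hr | hr
          · exact h r hr
          · rw [Nat.testBit_two_pow, decide_eq_true_eq] at hr
            exact hr ▸ hp
      · exact ih _ _ (fun r hr => hst r (List.mem_cons_of_mem _ hr)) h q hq

theorem twoTrans_of_twoB {a b : G42} (hb : cols (b : Matrix (Fin 4) (Fin 4) (ZMod 2)) = b0C)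
    (h : twoB (cols (a : Matrix (Fin 4) (Fin 4) (ZMod 2))) = true) {H : Subgroup G42} (ha : a ∈ H) (hbH : b ∈ H)
    {v w : V4} (hv : v ≠ 0) (hw : w ≠ 0) (hvw : v ≠ w) :
    ∃ g ∈ H, (g : Matrix (Fin 4) (Fin 4) (ZMod 2)) *ᵥ dec 1 = v ∧ (g : Matrix (Fin 4) (Fin 4) (ZMod 2)) *ᵥ dec 2 = w := by
  let R : ℕ → Prop := fun p => ∃ g ∈ H, enc ((g : Matrix (Fin 4) (Fin 4) (ZMod 2)) *ᵥ dec 1) = p % 16 ∧
    enc ((g : Matrix (Fin 4) (Fin 4) (ZMod 2)) *ᵥ dec 2) = p / 16
  have lt := enc_facts.2.1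
  have step : ∀ (m : G42), m ∈ H → ∀ p, R p →
      R (app (cols (m : Matrix (Fin 4) (Fin 4) (ZMod 2))) (p % 16) +
        16 * app (cols (m : Matrix (Fin 4) (Fin 4) (ZMod 2))) (p / 16)) := by
    rintro m hm p ⟨g, hg, g1, g2⟩
    refine ⟨m * g, H.mul_mem hm hg, ?_, ?_⟩ <;>
      · rw [Units.val_mul, ← Matrix.mulVec_mulVec, ← g1, ← g2, app_cols, app_cols]
        have := lt ((m : Matrix (Fin 4) (Fin 4) (ZMod 2)) *ᵥ ((g : Matrix (Fin 4) (Fin 4) (ZMod 2)) *ᵥ dec 1))
        omega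
  simp only [twoB, Nat.beq_eq] at h
  have hbit : allPairs.testBit (enc v + 16 * enc w) = true := by
    have : ∀ x y : Fin 16, (x : ℕ) ≠ 0 → (y : ℕ) ≠ 0 → x ≠ y → allPairs.testBit ((x : ℕ) + 16 * y) = true := by
      decide +kernel
    refine this ⟨enc v, lt v⟩ ⟨enc w, lt w⟩ (fun e => hv (enc_facts.2.2.2 v e)) (fun e => hw (enc_facts.2.2.2 w e))
      (fun e => hvw (enc_injective (Fin.mk.inj_iff.1 e)))
  rw [← h] at hbit
  obtain ⟨g, hg, g1, g2⟩ := visit_sound (R := R) (step a ha) (hb ▸ step b hbH) 600 [1 + 16 * 2] 0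
    (fun p hp => by
      rw [List.mem_singleton] at hp; subst hp
      exact ⟨1, H.one_mem, by simp; decide +kernel, by simp; decide +kernel⟩)
    (fun q hq => by simp at hq) _ hbit
  have := lt v
  exact ⟨g, hg, enc_injective (by omega), enc_injective (by omega)⟩

/-- The matrix of an element of order five. -/
def b0M : Matrix (Fin 4) (Fin 4) (ZMod 2) := fun i j => dec (b0C.getD (j : ℕ) 0) i

theorem b0M_facts : cols b0M = b0C ∧ eqC (mulC b0C (powC b0C 4)) idM = true ∧
    eqC (mulC (powC b0C 4) b0C) idM = true := by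
  refine ⟨by decide +kernel, by decide +kernel, by decide +kernel⟩

/-- An element of order five. -/
def b0 : G42 := ⟨b0M, b0M ^ 4, eqC_cols (by rw [cols_mul, cols_pow, cols_one, b0M_facts.1]; exact b0M_facts.2.1),
  eqC_cols (by rw [cols_mul, cols_pow, cols_one, b0M_facts.1]; exact b0M_facts.2.2)⟩

theorem orderOf_b0 : orderOf b0 = 5 := by
  haveI : Fact (Nat.Prime 5) := ⟨by decide⟩
  have h := norm_ok
  simp only [normOK, Bool.and_eq_true, Bool.not_eq_true'] at h
  refine orderOf_eq_prime (Units.ext (eqC_cols ?_)) fun e => ?_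
  · show eqC (cols ((b0 ^ 5 : G42) : Matrix (Fin 4) (Fin 4) (ZMod 2))) (cols ((1 : G42) : Matrix (Fin 4) (Fin 4) (ZMod 2))) = true
    rw [Units.val_pow_eq_pow_val, Units.val_one, cols_pow, cols_one,
      show cols (b0 : Matrix (Fin 4) (Fin 4) (ZMod 2)) = b0C from b0M_facts.1]
    exact h.1.1
  · have e' : cols (b0 : Matrix (Fin 4) (Fin 4) (ZMod 2)) = idM := by rw [e, Units.val_one, cols_one]
    rw [show cols (b0 : Matrix (Fin 4) (Fin 4) (ZMod 2)) = b0C from b0M_facts.1] at e'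
    rw [e', eqC_self] at h
    exact Bool.noConfusion h.1.2

theorem card_G42 : Nat.card G42 = 20160 := by
  have h := Matrix.card_GL_field (𝔽 := ZMod 2) 4
  rw [ZMod.card] at h
  rw [h]; decide +kernel

theorem conj_b0 {x : G42} (hx : orderOf x = 5) : ∃ g : G42, g * x * g⁻¹ = b0 := by
  haveI : Fact (Nat.Prime 5) := ⟨by decide⟩
  have syl : ∀ y : G42, orderOf y = 5 → ∃ S : Sylow 5 G42, (S : Subgroup G42) = Subgroup.zpowers y := by
    intro y hy
    obtain ⟨S, hS⟩ := (IsPGroup.of_card (n := 1) (by rw [Nat.card_zpowers, hy, pow_one]) :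
      IsPGroup 5 (Subgroup.zpowers y)).exists_le_sylow
    refine ⟨S, (Subgroup.eq_of_le_of_card_ge hS ?_).symm⟩
    obtain ⟨k, hk⟩ := IsPGroup.iff_card.1 S.2
    have hk1 : k ≤ 1 := by
      by_contra hc
      have := (pow_dvd_pow 5 (show 2 ≤ k by omega)).trans
        (card_G42 ▸ hk ▸ Subgroup.card_subgroup_dvd_card (S : Subgroup G42))
      norm_num at this
    rw [hk, Nat.card_zpowers, hy]
    calc 5 ^ k ≤ 5 ^ 1 := Nat.pow_le_pow_right (by norm_num) hk1
      _ = 5 := pow_one _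
  obtain ⟨S, hS⟩ := syl _ hx
  obtain ⟨T, hT⟩ := syl _ orderOf_b0
  obtain ⟨g, hg⟩ := MulAction.exists_smul_eq G42 S T
  have hm : g * x * g⁻¹ ∈ (T : Subgroup G42) := by
    rw [← hg, Sylow.coe_subgroup_smul, Subgroup.mem_pointwise_smul_iff_inv_smul_mem]
    simp only [MulAut.smul_def, MulAut.inv_def, MulAut.conj_symm_apply, hS]
    have : g⁻¹ * (g * x * g⁻¹) * g = x := by group
    rw [this]
    exact Subgroup.mem_zpowers x
  rw [hT] at hm
  classical
  obtain ⟨k, hk, he⟩ := Finset.mem_image.1 (mem_zpowers_iff_mem_range_orderOf.1 hm)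
  rw [Finset.mem_range, orderOf_b0] at hk
  have hk0 : 0 < k := Nat.pos_of_ne_zero fun e => by
    rw [e, pow_zero] at he
    have h1 : x = 1 := by simpa using he.symm
    rw [h1, orderOf_one] at hx
    omega
  have h := norm_ok
  simp only [normOK, Bool.and_eq_true, List.all_eq_true, List.mem_range] at h
  obtain ⟨⟨h1, h2⟩, h3⟩ := h.2 (k - 1) (by omega)
  rw [Nat.sub_add_cancel hk0] at h3
  set W := normW.getD (k - 1) ([], [])
  let w : Matrix (Fin 4) (Fin 4) (ZMod 2) := fun i j => dec (W.1.getD (j : ℕ) 0) i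
  let w' : Matrix (Fin 4) (Fin 4) (ZMod 2) := fun i j => dec (W.2.getD (j : ℕ) 0) i
  have hwc : ∀ i : Fin 4, cols (fun r c => dec ((normW.getD i ([], [])).1.getD (c : ℕ) 0) r) = (normW.getD i ([], [])).1 ∧
      cols (fun r c => dec ((normW.getD i ([], [])).2.getD (c : ℕ) 0) r) = (normW.getD i ([], [])).2 := by decide +kernel
  obtain ⟨cw, cw'⟩ := hwc ⟨k - 1, by omega⟩
  have cw1 : cols w = W.1 := cw
  have cw2 : cols w' = W.2 := cw'
  let u : G42 := ⟨w, w', eqC_cols (by rw [cols_mul, cw1, cw2, cols_one]; exact h1),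
    eqC_cols (by rw [cols_mul, cw1, cw2, cols_one]; exact h2)⟩
  refine ⟨u * g, ?_⟩
  have : u * b0 ^ k * u⁻¹ = b0 := Units.ext (eqC_cols (by
    rw [Units.val_mul, Units.val_mul, Units.val_pow_eq_pow_val, cols_mul, cols_mul, cols_pow,
      show cols (b0 : Matrix (Fin 4) (Fin 4) (ZMod 2)) = b0C from b0M_facts.1,
      show cols ((u : G42) : Matrix (Fin 4) (Fin 4) (ZMod 2)) = W.1 from cw1,
      show cols ((u⁻¹ : G42) : Matrix (Fin 4) (Fin 4) (ZMod 2)) = W.2 from cw2]
    exact h3))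
  rw [← this, he]; group

theorem alt_seven_gens : ∃ a b : alternatingGroup (Fin 7), a ≠ 1 ∧ a ^ 3 = 1 ∧ b ≠ 1 ∧ b ^ 5 = 1 ∧ (a * b) ^ 7 = 1 := by
  refine ⟨⟨Equiv.swap 0 1 * Equiv.swap 1 2, Equiv.Perm.mem_alternatingGroup.2 (by decide +kernel)⟩,
    ⟨Equiv.swap 2 3 * Equiv.swap 3 4 * Equiv.swap 4 5 * Equiv.swap 5 6, Equiv.Perm.mem_alternatingGroup.2 (by decide +kernel)⟩,
    ?_, ?_, ?_, ?_, ?_⟩ <;> decide +kernel

theorem two_transitive {H : Subgroup G42} (hH : Nonempty (H ≃* alternatingGroup (Fin 7))) {v w v' w' : V4}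
    (hv : v ≠ 0) (hw : w ≠ 0) (hvw : v ≠ w) (hv' : v' ≠ 0) (hw' : w' ≠ 0) (hvw' : v' ≠ w') :
    ∃ g ∈ H, (g : Matrix (Fin 4) (Fin 4) (ZMod 2)) *ᵥ v = v' ∧ (g : Matrix (Fin 4) (Fin 4) (ZMod 2)) *ᵥ w = w' := by
  obtain ⟨E⟩ := hH
  obtain ⟨a, b, ha1, ha3, hb1, hb5, hab⟩ := alt_seven_gens
  let φ : alternatingGroup (Fin 7) →* G42 := H.subtype.comp E.symm.toMonoidHom
  have hφ : Function.Injective φ := H.subtype_injective.comp E.symm.injective
  haveI : Fact (Nat.Prime 5) := ⟨by decide⟩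
  obtain ⟨g, hg⟩ := conj_b0 (x := φ b) (by rw [orderOf_injective φ hφ]; exact orderOf_eq_prime hb5 hb1)
  set a' := g * φ a * g⁻¹ with ha'
  have c3 : a' ^ 3 = 1 := by rw [ha', conj_pow, ← map_pow, ha3, map_one]; group
  have c1 : a' ≠ 1 := fun e => ha1 (hφ (by rw [map_one]; simpa [ha'] using e))
  have c7 : (a' * b0) ^ 7 = 1 := by
    rw [← hg, ha', show g * φ a * g⁻¹ * (g * φ b * g⁻¹) = g * φ (a * b) * g⁻¹ by rw [map_mul]; group,
      conj_pow, ← map_pow, hab, map_one]
    group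
  have hdet : (a' : Matrix (Fin 4) (Fin 4) (ZMod 2)).det ≠ 0 :=
    ((Matrix.isUnit_iff_isUnit_det _).1 a'.isUnit).ne_zero
  obtain ⟨hlt, hmem⟩ := cols_mem_glFrom hdet
  have hgood := List.all_eq_true.1 (good_all _ hlt) _ hmem
  simp only [goodB, Bool.or_eq_true, Bool.not_eq_true'] at hgood
  have hb0 : cols (b0 : Matrix (Fin 4) (Fin 4) (ZMod 2)) = b0C := b0M_facts.1
  have htwo : twoB (cols (a' : Matrix (Fin 4) (Fin 4) (ZMod 2))) = true := by
    rcases hgood with ((h | h) | h) | h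
    · refine absurd (Units.ext (eqC_cols ?_)) c1
      rw [Units.val_one, cols_one]; exact h
    · exfalso
      have e : cols ((a' : Matrix (Fin 4) (Fin 4) (ZMod 2)) * (a' * a')) = idM := by
        rw [← Units.val_mul, ← Units.val_mul, show a' * (a' * a') = 1 by rw [← c3]; simp [pow_succ, mul_assoc],
          Units.val_one, cols_one]
      rw [cols_mul, cols_mul] at e
      generalize cols (a' : Matrix (Fin 4) (Fin 4) (ZMod 2)) = A at e h
      simp only [mulC, idM, List.getD_cons_zero, List.getD_cons_succ, List.cons.injEq, and_true] at e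
      simp only [cubeB, e.1, e.2.1, e.2.2.1, e.2.2.2, Nat.beq_refl, Bool.and_self] at h
      exact Bool.noConfusion h
    · exfalso
      rw [← hb0, ← cols_mul, ← cols_pow, ← Units.val_mul, ← Units.val_pow_eq_pow_val, c7, Units.val_one, cols_one,
        eqC_self] at h
      exact Bool.noConfusion h
    · exact h
  let H' := H.map (MulAut.conj g).toMonoidHom
  have haH : a' ∈ H' := ⟨φ a, (E.symm a).2, rfl⟩
  have hbH : b0 ∈ H' := ⟨φ b, (E.symm b).2, hg⟩
  set gM := (g : Matrix (Fin 4) (Fin 4) (ZMod 2))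
  have ginj : Function.Injective gM.mulVec := Matrix.mulVec_injective_iff_isUnit.2 g.isUnit
  have nz : ∀ u : V4, u ≠ 0 → gM *ᵥ u ≠ 0 := fun u hu e => hu (ginj (e.trans (Matrix.mulVec_zero _).symm))
  obtain ⟨k, hk, k1, k2⟩ := twoTrans_of_twoB hb0 htwo haH hbH (nz v hv) (nz w hw) (fun e => hvw (ginj e))
  obtain ⟨l, hl, l1, l2⟩ := twoTrans_of_twoB hb0 htwo haH hbH (nz v' hv') (nz w' hw') (fun e => hvw' (ginj e))
  obtain ⟨m, hm, hme⟩ : ∃ m ∈ H, g * m * g⁻¹ = l * k⁻¹ := H'.mul_mem hl (H'.inv_mem hk)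
  refine ⟨m, hm, ginj ?_, ginj ?_⟩
  · show gM *ᵥ ((m : Matrix (Fin 4) (Fin 4) (ZMod 2)) *ᵥ v) = gM *ᵥ v'
    rw [Matrix.mulVec_mulVec, ← Units.val_mul, show g * m = (l * k⁻¹) * g by rw [← hme]; group, Units.val_mul,
      ← Matrix.mulVec_mulVec, ← k1, Matrix.mulVec_mulVec, ← Units.val_mul, inv_mul_cancel_right, l1]
  · show gM *ᵥ ((m : Matrix (Fin 4) (Fin 4) (ZMod 2)) *ᵥ w) = gM *ᵥ w'
    rw [Matrix.mulVec_mulVec, ← Units.val_mul, show g * m = (l * k⁻¹) * g by rw [← hme]; group, Units.val_mul,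
      ← Matrix.mulVec_mulVec, ← k2, Matrix.mulVec_mulVec, ← Units.val_mul, inv_mul_cancel_right, l2]

end Cfsg.Agent.GL42
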